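import Mathlib
import Cfsg.Agent.Lib.Helper60.U64.Defs
import Cfsg.Agent.Lib.Helper40.GUUnip

/-!
# Project U64 (statement S6001), package [P5], half (i): the unitary fixed-point-free lemma

`F` of order `p ^ 2`, `p` odd, `ord_5(p) = 4`.  A unitary `g ∈ GU_4(p)` with `g ^ 5 = 1`, `g ≠ 1`
satisfies `1 + g + g ^ 2 + g ^ 3 + g ^ 4 = 0`, hence `g - 1` is invertible.

Proof.  `τ` a root of `X ^ 2 + X - 1` in `F`; `τ ^ p = -1 - τ =: τ'` (otherwise `F` would contain
an element of order `5`).  `S = g + g⁻¹` is hermitian, `A = S - τ`, `A' = S - τ' = A*` have the same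
rank, `A A' = N(g)`.  `⟨g⟩` acts freely on the non-zero vectors of `ker A`, so `dim ker A` is even.
If it is `0`, `N(g)` is injective and `g = 1`; otherwise `ker A ⊕ ker A'` is everything and
`N(g) = 0`.
-/

set_option autoImplicit false

namespace Cfsg.Agent.Lib.Helper47.U64

open Matrix
open Cfsg.Agent.Lib.Helper60.U64 Cfsg.Agent.Lib.Helper45 Cfsg.Agent.Lib.Helper40.UnitaryWall

universe u

section fpf

variable {F : Type u} [Field F] [Fintype F] {p : ℕ}

theorem fpf_charP (hF : Fintype.card F = p ^ 2) (hp : p.Prime) : CharP F p := by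
  obtain ⟨p', k, hp', hchar, hq⟩ := q_prime_pow hF
  have hk : k ≠ 0 := by
    rintro rfl
    rw [pow_zero] at hq
    exact hp.one_lt.ne' hq
  have hdvd : p' ∣ p := by
    rw [hq]
    exact dvd_pow_self p' hk
  have : p' = p := (Nat.prime_dvd_prime_iff_eq hp' hp).1 hdvd
  rw [← this]
  exact hchar

theorem fpf_two_ne (hF : Fintype.card F = p ^ 2) (hp : p.Prime) (hp2 : p ≠ 2) : (2 : F) ≠ 0 := by
  have := fpf_charP hF hp
  intro h
  have h' : ((2 : ℕ) : F) = 0 := by exact_mod_cast h
  rw [CharP.cast_eq_zero_iff F p] at h'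
  exact hp2 ((Nat.prime_dvd_prime_iff_eq hp Nat.prime_two).1 h')

theorem fpf_five_ne (hF : Fintype.card F = p ^ 2) (hp : p.Prime)
    (h5 : orderOf (p : ZMod 5) = 4) : (5 : F) ≠ 0 := by
  have := fpf_charP hF hp
  intro h
  have h' : ((5 : ℕ) : F) = 0 := by exact_mod_cast h
  rw [CharP.cast_eq_zero_iff F p] at h'
  have hp5 : p = 5 := (Nat.prime_dvd_prime_iff_eq hp (by norm_num)).1 h'
  have h4 := pow_orderOf_eq_one (p : ZMod 5)
  rw [h5, hp5] at h4
  revert h4
  decide

/-- Elements of the prime field are squares in `F`. -/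
theorem fpf_sq (hF : Fintype.card F = p ^ 2) (hp : p.Prime) (hp2 : p ≠ 2) (a : F)
    (ha : a ^ p = a) : ∃ c : F, c * c = a := by
  have := fpf_charP hF hp
  by_cases ha0 : a = 0
  · exact ⟨0, by rw [ha0, mul_zero]⟩
  · have hchar : ringChar F ≠ 2 := by
      rw [ringChar.eq F p]
      exact hp2
    have h1 : a ^ (p - 1) = 1 := by
      have h2 : a ^ (p - 1) * a = a := by
        rw [← pow_succ, Nat.sub_add_cancel hp.one_lt.le, ha]
      exact mul_right_cancel₀ ha0 (by rw [h2, one_mul])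
    obtain ⟨m, hm⟩ : ∃ m, p = 2 * m + 1 := by
      rcases Nat.Prime.eq_two_or_odd hp with h | h
      · exact absurd h hp2
      · exact ⟨p / 2, by omega⟩
    have hcard : Fintype.card F / 2 = (p - 1) * (m + 1) := by
      rw [hF, hm]
      have : (2 * m + 1) ^ 2 = 2 * ((2 * m + 1 - 1) * (m + 1)) + 1 := by
        have : 2 * m + 1 - 1 = 2 * m := by omega
        rw [this]
        ring
      rw [this]
      omega
    have hsq : IsSquare a := by
      rw [FiniteField.isSquare_iff hchar ha0, hcard, pow_mul, h1, one_pow]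
    obtain ⟨c, hc⟩ := hsq
    exact ⟨c, hc.symm⟩

/-- A root `τ` of `X ^ 2 + X - 1` with `τ ^ p = -1 - τ`. -/
theorem fpf_tau (hF : Fintype.card F = p ^ 2) (hp : p.Prime) (hp2 : p ≠ 2)
    (h5 : orderOf (p : ZMod 5) = 4) :
    ∃ τ : F, τ * τ + τ - 1 = 0 ∧ τ ^ p = -1 - τ := by
  have h2 := fpf_two_ne hF hp hp2
  have h5F := fpf_five_ne hF hp h5
  have hσ : ∀ x : F, sigmaQ hF x = x ^ p := fun x => rfl
  obtain ⟨c, hc⟩ := fpf_sq hF hp hp2 (5 : F) (by
    rw [← hσ, map_ofNat])
  refine ⟨(c - 1) / 2, ?_, ?_⟩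
  · field_simp
    linear_combination hc
  · set τ : F := (c - 1) / 2 with hτdef
    have hτ : τ * τ + τ - 1 = 0 := by
      rw [hτdef]
      field_simp
      linear_combination hc
    have ht : τ ^ p * τ ^ p + τ ^ p - 1 = 0 := by
      have := congrArg (sigmaQ hF) hτ
      rw [map_sub, map_add, map_mul, map_one, map_zero] at this
      exact this
    have hprod : (τ ^ p - τ) * (τ ^ p - (-1 - τ)) = 0 := by
      linear_combination ht - hτ
    rcases mul_eq_zero.1 hprod with h | h
    · exfalso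
      have hfix : τ ^ p = τ := sub_eq_zero.1 h
      obtain ⟨δ, hδ⟩ := fpf_sq hF hp hp2 (τ * τ - 4) (by
        rw [← hσ, map_sub, map_mul, map_ofNat, hσ, hfix])
      set lam : F := (τ + δ) / 2 with hlamdef
      have hlam : lam * lam - τ * lam + 1 = 0 := by
        rw [hlamdef]
        field_simp
        linear_combination hδ
      have hlam5 : lam ^ 5 = 1 := by
        linear_combination ((lam - 1) * (lam * lam + (1 + τ) * lam + 1)) * hlam
          + ((lam - 1) * lam * lam) * hτ
      have hlam1 : lam ≠ 1 := by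
        intro h1
        rw [h1] at hlam
        have hτ2 : τ = 2 := by linear_combination -hlam
        rw [hτ2] at hτ
        apply h5F
        linear_combination hτ
      have hlam0 : lam ≠ 0 := by
        intro h0
        rw [h0] at hlam5
        simp at hlam5
      have : Fact (Nat.Prime 5) := ⟨by norm_num⟩
      have hord : orderOf lam = 5 := orderOf_eq_prime hlam5 hlam1
      have hdvd : 5 ∣ p ^ 2 - 1 := by
        rw [← hord, ← hF]
        exact orderOf_dvd_of_pow_eq_one (FiniteField.pow_card_sub_one_eq_one lam hlam0)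
      have hp1 : 1 ≤ p ^ 2 := Nat.one_le_pow _ _ hp.pos
      have hz : ((p ^ 2 - 1 : ℕ) : ZMod 5) = 0 := (ZMod.natCast_eq_zero_iff _ _).2 hdvd
      rw [Nat.cast_sub hp1] at hz
      push_cast at hz
      have hz' : (p : ZMod 5) ^ 2 = 1 := sub_eq_zero.1 hz
      have := orderOf_dvd_of_pow_eq_one hz'
      rw [h5] at this
      omega
    · exact sub_eq_zero.1 h

/-- Parity of the kernel dimension by counting. -/
theorem fpf_ker_even (hF : Fintype.card F = p ^ 2) (h5 : orderOf (p : ZMod 5) = 4)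
    (G A : M4 F) (hG : G ^ 5 = 1) (hc : G * A = A * G)
    (hfix : ∀ v : Fin 4 → F, G *ᵥ v = v → A *ᵥ v = 0 → v = 0) :
    Even (Module.finrank F (LinearMap.ker A.mulVecLin)) := by
  classical
  set K := LinearMap.ker A.mulVecLin with hK
  have hmemK : ∀ v : Fin 4 → F, v ∈ K ↔ A *ᵥ v = 0 := by
    intro v
    rw [hK, LinearMap.mem_ker, Matrix.mulVecLin_apply]
  have : Fact (Nat.Prime 5) := ⟨by norm_num⟩
  let f : Function.End K := fun v => ⟨G *ᵥ (v : Fin 4 → F), by
    rw [hmemK, Matrix.mulVec_mulVec, ← hc, ← Matrix.mulVec_mulVec, (hmemK _).1 v.2,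
      Matrix.mulVec_zero]⟩
  have hfk : ∀ (k : ℕ) (v : K), (((f ^ k) v : K) : Fin 4 → F) = (G ^ k) *ᵥ (v : Fin 4 → F) := by
    intro k
    induction k with
    | zero =>
      intro v
      rw [pow_zero, pow_zero, Matrix.one_mulVec]
      rfl
    | succ k ih =>
      intro v
      rw [pow_succ']
      change G *ᵥ (((f ^ k) v : K) : Fin 4 → F) = _
      rw [ih v, Matrix.mulVec_mulVec, ← pow_succ']
  have hf : f ^ 5 ^ 1 = 1 := by
    rw [pow_one]
    funext v
    apply Subtype.ext
    rw [hfk, hG, Matrix.one_mulVec]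
    rfl
  have hmod := Equiv.Perm.card_fixedPoints_modEq (f := f) (p := 5) (n := 1) hf
  have hfixcard : Fintype.card (Function.fixedPoints f) = 1 := by
    rw [Fintype.card_eq_one_iff]
    refine ⟨⟨0, ?_⟩, ?_⟩
    · change f 0 = 0
      apply Subtype.ext
      change G *ᵥ ((0 : K) : Fin 4 → F) = ((0 : K) : Fin 4 → F)
      rw [Submodule.coe_zero, Matrix.mulVec_zero]
    · rintro ⟨v, hv⟩
      apply Subtype.ext
      apply Subtype.ext
      change (v : Fin 4 → F) = ((0 : K) : Fin 4 → F)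
      rw [Submodule.coe_zero]
      have hv' : f v = v := hv
      have h1 : G *ᵥ (v : Fin 4 → F) = (v : Fin 4 → F) := congrArg Subtype.val hv'
      exact hfix _ h1 ((hmemK _).1 v.2)
  rw [hfixcard] at hmod
  have hcardK : Fintype.card K = (p ^ 2) ^ Module.finrank F K := by
    rw [← Nat.card_eq_fintype_card, Module.natCard_eq_pow_finrank (K := F) (V := K),
      Nat.card_eq_fintype_card, hF]
  rw [hcardK] at hmod
  have hz : (((p ^ 2) ^ Module.finrank F K : ℕ) : ZMod 5) = ((1 : ℕ) : ZMod 5) :=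
    (ZMod.natCast_eq_natCast_iff _ _ 5).2 hmod
  push_cast at hz
  rw [← pow_mul] at hz
  have hd := orderOf_dvd_of_pow_eq_one hz
  rw [h5] at hd
  obtain ⟨k, hk⟩ := hd
  exact ⟨k, by omega⟩

/-- The unitary fixed-point-free lemma. -/
theorem fpf5 (hF : Fintype.card F = p ^ 2) (hp : p.Prime) (hp2 : p ≠ 2)
    (h5 : orderOf (p : ZMod 5) = 4) (g : GL (Fin 4) F) (hg : g ∈ Cfsg.GU 4 F p)
    (hg5 : g ^ 5 = 1) (hg1 : g ≠ 1) :
    (1 : M4 F) + (g : M4 F) + (g : M4 F) ^ 2 + (g : M4 F) ^ 3 + (g : M4 F) ^ 4 = 0 := by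
  classical
  obtain ⟨τ, hτ, hτp⟩ := fpf_tau hF hp hp2 h5
  have h2 := fpf_two_ne hF hp hp2
  have h5F := fpf_five_ne hF hp h5
  set σ := sigmaQ hF with hσdef
  have hσ2 : ∀ a, σ (σ a) = a := conj_conj hF
  set G : M4 F := (g : M4 F) with hGdef
  have hG5 : G ^ 5 = 1 := by
    rw [hGdef, ← Units.val_pow_eq_pow_val, hg5, Units.val_one]
  have hU : cstar σ G * G = 1 := (mem_GU_iff_cstar hF g).1 hg
  have hcs : cstar σ G = G ^ 4 := by
    calc cstar σ G = cstar σ G * (G * G ^ 4) := by
          rw [← pow_succ', hG5, mul_one]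
      _ = G ^ 4 := by rw [← mul_assoc, hU, one_mul]
  have hcs4 : cstar σ (G ^ 4) = G := by
    rw [← hcs, cstar_cstar σ hσ2]
  set S : M4 F := G + G ^ 4 with hSdef
  have hSstar : cstar σ S = S := by
    rw [hSdef, cstar_add, hcs, hcs4, add_comm]
  set A : M4 F := S - τ • (1 : M4 F) with hAdef
  set A' : M4 F := S - (-1 - τ) • (1 : M4 F) with hA'def
  have hAstar : cstar σ A = A' := by
    rw [hAdef, cstar_sub, hSstar, cstar_smul_one, hσdef, sigmaQ_apply, hτp]
  have hrank : A'.rank = A.rank := by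
    rw [← hAstar]
    exact rank_cstar σ hσ2 A
  set Ng : M4 F := ∑ i ∈ Finset.range 5, G ^ i with hNgdef
  have hNg : Ng = 1 + G + G ^ 2 + G ^ 3 + G ^ 4 := by
    rw [hNgdef]
    simp [Finset.sum_range_succ]
  have hNg1 : Ng * (G - 1) = 0 := by
    rw [hNgdef, geom_sum_mul, hG5, sub_self]
  have hSS : S * S = G ^ 2 + (1 + 1) + G ^ 3 := by
    have e8 : G ^ 8 = G ^ 3 := by
      calc G ^ 8 = G ^ 5 * G ^ 3 := by rw [← pow_add]
        _ = G ^ 3 := by rw [hG5, one_mul]
    calc S * S = G ^ 2 + G ^ 5 + G ^ 5 + G ^ 8 := by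
          rw [hSdef]
          noncomm_ring
      _ = G ^ 2 + (1 + 1) + G ^ 3 := by
          rw [hG5, e8]
          abel
  have hAA' : A * A' = Ng := by
    have e1 : A * A' = S * S + S - 1 := by
      rw [hAdef, hA'def, sub_mul, mul_sub, mul_sub, Matrix.mul_smul, Matrix.smul_mul,
        Matrix.smul_mul, Matrix.mul_smul, mul_one, one_mul, mul_one, smul_smul]
      have e2 : τ * (-1 - τ) = -1 := by linear_combination -hτ
      rw [e2]
      module
    rw [e1, hSS, hNg, hSdef]
    abel
  have hA'A : A' * A = Ng := by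
    rw [← hAA', hAdef, hA'def]
    simp only [sub_mul, mul_sub, Matrix.mul_smul, Matrix.smul_mul, mul_one, one_mul, smul_smul,
      mul_comm τ (-1 - τ)]
    abel
  have hGS : G * S = S * G := by
    rw [hSdef, mul_add, add_mul, ← pow_succ', ← pow_succ]
  have hGA : G * A = A * G := by
    rw [hAdef, mul_sub, sub_mul, hGS, Matrix.mul_smul, Matrix.smul_mul, mul_one, one_mul]
  have hGA' : G * A' = A' * G := by
    rw [hA'def, mul_sub, sub_mul, hGS, Matrix.mul_smul, Matrix.smul_mul, mul_one, one_mul]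
  -- fixed vectors
  have hSfix : ∀ v : Fin 4 → F, G *ᵥ v = v → S *ᵥ v = (2 : F) • v := by
    intro v hv
    have h4 : (G ^ 4) *ᵥ v = v := by
      have e : G ^ 4 = G * (G * (G * G)) := by noncomm_ring
      rw [e, ← Matrix.mulVec_mulVec, ← Matrix.mulVec_mulVec, ← Matrix.mulVec_mulVec, hv, hv, hv,
        hv]
    rw [hSdef, Matrix.add_mulVec, hv, h4, two_smul]
  have hτ2 : (2 : F) - τ ≠ 0 := by
    intro h
    have hτ' : τ = 2 := by linear_combination -h
    rw [hτ'] at hτ
    apply h5F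
    linear_combination hτ
  have hτ2' : (2 : F) - (-1 - τ) ≠ 0 := by
    intro h
    have hτ' : τ = -3 := by linear_combination h
    rw [hτ'] at hτ
    apply h5F
    linear_combination hτ
  have hfixA : ∀ v : Fin 4 → F, G *ᵥ v = v → A *ᵥ v = 0 → v = 0 := by
    intro v hv hAv
    rw [hAdef, Matrix.sub_mulVec, hSfix v hv, Matrix.smul_mulVec, Matrix.one_mulVec,
      ← sub_smul] at hAv
    rcases smul_eq_zero.1 hAv with h | h
    · exact absurd h hτ2
    · exact h
  have hevA := fpf_ker_even hF h5 G A hG5 hGA hfixA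
  -- rank-nullity
  have hrnA := LinearMap.finrank_range_add_finrank_ker A.mulVecLin
  have hrnA' := LinearMap.finrank_range_add_finrank_ker A'.mulVecLin
  rw [Module.finrank_fin_fun] at hrnA hrnA'
  have hrank' : Module.finrank F (LinearMap.range A'.mulVecLin)
      = Module.finrank F (LinearMap.range A.mulVecLin) := hrank
  have hkerEq : Module.finrank F (LinearMap.ker A'.mulVecLin)
      = Module.finrank F (LinearMap.ker A.mulVecLin) := by omega
  by_cases hd0 : Module.finrank F (LinearMap.ker A.mulVecLin) = 0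
  · -- both kernels trivial: `Ng` injective, so `g = 1`
    exfalso
    have hkA : LinearMap.ker A.mulVecLin = ⊥ := Submodule.finrank_eq_zero.1 hd0
    have hkA' : LinearMap.ker A'.mulVecLin = ⊥ := Submodule.finrank_eq_zero.1 (hkerEq.trans hd0)
    have hinjA : ∀ v : Fin 4 → F, A *ᵥ v = 0 → v = 0 := by
      intro v hv
      have : v ∈ LinearMap.ker A.mulVecLin := by
        rw [LinearMap.mem_ker, Matrix.mulVecLin_apply]
        exact hv
      rw [hkA] at this
      exact (Submodule.mem_bot F).1 this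
    have hinjA' : ∀ v : Fin 4 → F, A' *ᵥ v = 0 → v = 0 := by
      intro v hv
      have : v ∈ LinearMap.ker A'.mulVecLin := by
        rw [LinearMap.mem_ker, Matrix.mulVecLin_apply]
        exact hv
      rw [hkA'] at this
      exact (Submodule.mem_bot F).1 this
    have hall : ∀ v : Fin 4 → F, G *ᵥ v = v := by
      intro v
      have h1 : Ng *ᵥ ((G - 1) *ᵥ v) = 0 := by
        rw [Matrix.mulVec_mulVec, hNg1, Matrix.zero_mulVec]
      rw [← hAA', ← Matrix.mulVec_mulVec] at h1
      have h2 := hinjA' _ (hinjA _ h1)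
      rw [Matrix.sub_mulVec, Matrix.one_mulVec] at h2
      exact sub_eq_zero.1 h2
    apply hg1
    apply Units.ext
    rw [Units.val_one]
    change G = 1
    apply Matrix.toLin'.injective
    apply LinearMap.ext
    intro v
    rw [Matrix.toLin'_apply, Matrix.toLin'_one, LinearMap.id_apply]
    exact hall v
  · -- kernels of dimension ≥ 2 each: they span, so `Ng = 0`
    have hd2 : 2 ≤ Module.finrank F (LinearMap.ker A.mulVecLin) := by
      obtain ⟨k, hk⟩ := hevA
      omega
    have hdisj : LinearMap.ker A.mulVecLin ⊓ LinearMap.ker A'.mulVecLin = ⊥ := by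
      rw [eq_bot_iff]
      intro v hv
      rw [Submodule.mem_inf, LinearMap.mem_ker, LinearMap.mem_ker, Matrix.mulVecLin_apply,
        Matrix.mulVecLin_apply] at hv
      rw [Submodule.mem_bot]
      have h1 : (A - A') *ᵥ v = 0 := by
        rw [Matrix.sub_mulVec, hv.1, hv.2, sub_zero]
      have e : A - A' = (-1 - τ - τ) • (1 : M4 F) := by
        rw [hAdef, hA'def]
        module
      rw [e, Matrix.smul_mulVec, Matrix.one_mulVec] at h1
      rcases smul_eq_zero.1 h1 with h | h
      · exfalso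
        have hτ' : 2 * τ = -1 := by linear_combination -h
        apply h5F
        have : (2 * τ) * (2 * τ) + 2 * (2 * τ) - 4 = 0 := by linear_combination 4 * hτ
        rw [hτ'] at this
        linear_combination -this
      · exact h
    have hsup := Submodule.finrank_sup_add_finrank_inf_eq (LinearMap.ker A.mulVecLin)
      (LinearMap.ker A'.mulVecLin)
    rw [hdisj, finrank_bot, add_zero] at hsup
    have htop : LinearMap.ker A.mulVecLin ⊔ LinearMap.ker A'.mulVecLin = ⊤ := by
      apply Submodule.eq_top_of_finrank_eq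
      rw [Module.finrank_fin_fun]
      have hle := Submodule.finrank_le (LinearMap.ker A.mulVecLin ⊔ LinearMap.ker A'.mulVecLin)
      rw [Module.finrank_fin_fun] at hle
      omega
    have hzero : ∀ v : Fin 4 → F, Ng *ᵥ v = 0 := by
      intro v
      have hv : v ∈ LinearMap.ker A.mulVecLin ⊔ LinearMap.ker A'.mulVecLin := by
        rw [htop]
        exact Submodule.mem_top
      obtain ⟨k, hk, k', hk', rfl⟩ := Submodule.mem_sup.1 hv
      rw [LinearMap.mem_ker, Matrix.mulVecLin_apply] at hk hk'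
      rw [Matrix.mulVec_add]
      have e1 : Ng *ᵥ k = 0 := by
        rw [← hA'A, ← Matrix.mulVec_mulVec, hk, Matrix.mulVec_zero]
      have e2 : Ng *ᵥ k' = 0 := by
        rw [← hAA', ← Matrix.mulVec_mulVec, hk', Matrix.mulVec_zero]
      rw [e1, e2, add_zero]
    rw [← hNg]
    apply Matrix.toLin'.injective
    apply LinearMap.ext
    intro v
    rw [Matrix.toLin'_apply, hzero v]
    simp

/-- Corollary: `g - 1` is invertible. -/
theorem fpf5_isUnit (hF : Fintype.card F = p ^ 2) (hp : p.Prime) (hp2 : p ≠ 2)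
    (h5 : orderOf (p : ZMod 5) = 4) (g : GL (Fin 4) F) (hg : g ∈ Cfsg.GU 4 F p)
    (hg5 : g ^ 5 = 1) (hg1 : g ≠ 1) : IsUnit ((g : M4 F) - 1) := by
  have h := fpf5 hF hp hp2 h5 g hg hg5 hg1
  have h5F := fpf_five_ne hF hp h5
  set G : M4 F := (g : M4 F) with hGdef
  have hprod : (G - 1) * ((-(5 : F)⁻¹) •
      (G ^ 3 + (2 : ℕ) • G ^ 2 + (3 : ℕ) • G + (4 : ℕ) • (1 : M4 F))) = 1 := by
    rw [Matrix.mul_smul]
    have e : (G - 1) * (G ^ 3 + (2 : ℕ) • G ^ 2 + (3 : ℕ) • G + (4 : ℕ) • (1 : M4 F))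
        = (1 + G + G ^ 2 + G ^ 3 + G ^ 4) - (5 : ℕ) • (1 : M4 F) := by
      noncomm_ring
    rw [e, h, zero_sub, smul_neg, neg_smul, neg_neg, ← Nat.cast_smul_eq_nsmul F 5 (1 : M4 F),
      smul_smul]
    have e3 : (5 : F)⁻¹ * ((5 : ℕ) : F) = 1 := by
      rw [Nat.cast_ofNat]
      exact inv_mul_cancel₀ h5F
    rw [e3, one_smul]
  exact IsUnit.of_mul_eq_one _ hprod

end fpf

end Cfsg.Agent.Lib.Helper47.U64
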